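import Mathlib
import Groth.Agent.Misc15.DivDescentAlg

/-!
# An isomorphism criterion for a base changed module across depth two
-/

set_option autoImplicit false
universe u

open TensorProduct IsLocalRing

namespace Groth.Agent.FreeDescent

variable {R B : Type u} [CommRing R] [CommRing B] [Algebra R B]
  {M N : Type u} [AddCommGroup M] [Module R M] [AddCommGroup N] [Module R N] [Module B N] [IsScalarTower R B N]

/-- Multiplication on a tensor product through the right factor. -/
theorem lTensor_lsmul (a : R) (z : B ⊗[R] M) : (LinearMap.lsmul R M a).lTensor B z = a • z := by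
  induction z using TensorProduct.induction_on with
  | zero => simp
  | tmul x m => simp [TensorProduct.tmul_smul]
  | add x y hx hy => simp [hx, hy]

/-- A regular pair on a module stays regular on a flat base change. -/
theorem tensor_regular_pair [Module.Flat R B] {a b : R} (h1 : ∀ m : M, a • m = 0 → m = 0)
    (h2 : ∀ m w : M, b • m = a • w → ∃ w', m = a • w') :
    (∀ z : B ⊗[R] M, a • z = 0 → z = 0) ∧
      ∀ z w : B ⊗[R] M, b • z = a • w → ∃ w', z = a • w' := by
  constructor
  · intro z hz
    have hinj : Function.Injective (LinearMap.lsmul R M a) := (injective_iff_map_eq_zero _).2 fun m hm => h1 m hm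
    refine Module.Flat.lTensor_preserves_injective_linearMap (M := B) _ hinj ?_
    rw [lTensor_lsmul, map_zero]
    exact hz
  · intro z w hzw
    let L : M →ₗ[R] M := LinearMap.lsmul R M a
    let q : M →ₗ[R] M ⧸ LinearMap.range L := (LinearMap.range L).mkQ
    have hex : Function.Exact L q := fun y => by simp [q, L]
    have hex' := Module.Flat.lTensor_exact B hex
    have hinj : Function.Injective (LinearMap.lsmul R (M ⧸ LinearMap.range L) b) := by
      refine (injective_iff_map_eq_zero _).2 fun y hy => ?_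
      obtain ⟨m, rfl⟩ := Submodule.mkQ_surjective _ y
      obtain ⟨w₀, hw₀⟩ : b • m ∈ LinearMap.range L := (Submodule.Quotient.mk_eq_zero _).1 hy
      obtain ⟨w', hw'⟩ := h2 m w₀ hw₀.symm
      exact (Submodule.Quotient.mk_eq_zero _).2 ⟨w', hw'.symm⟩
    have h0 : q.lTensor B z = 0 := by
      refine Module.Flat.lTensor_preserves_injective_linearMap (M := B) _ hinj ?_
      rw [lTensor_lsmul, map_zero, ← map_smul, hzw, map_smul]
      have : q.lTensor B (a • w) = 0 := (hex' _).2 ⟨w, by rw [lTensor_lsmul]⟩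
      rwa [map_smul] at this
    obtain ⟨w', hw'⟩ := (hex' z).1 h0
    exact ⟨w', by rw [← hw', lTensor_lsmul]⟩

/-- A saturated submodule contains what lies in it away from the saturating ideal. -/
theorem mem_of_forall_prime [IsNoetherianRing B] {V : Type u} [AddCommGroup V] [Module B V] {M₀ : Ideal B}
    {K : Submodule B V} (hK : ∀ x : V, (∀ r ∈ M₀, r • x ∈ K) → x ∈ K) {x : V}
    (h : ∀ Q : Ideal B, Q.IsPrime → ¬ M₀ ≤ Q → ∃ t ∉ Q, t • x ∈ K) : x ∈ K := by
  let C : Ideal B := Submodule.comap (LinearMap.toSpanSingleton B V x) K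
  have hrad : M₀ ≤ C.radical := by
    rw [Ideal.radical_eq_sInf]
    refine le_sInf ?_
    rintro Q ⟨hQ, hQp⟩
    by_contra hMQ
    obtain ⟨t, ht, htx⟩ := h Q hQp hMQ
    exact ht (hQ htx)
  obtain ⟨n, hn⟩ := Ideal.exists_pow_le_of_le_radical_of_fg hrad (IsNoetherian.noetherian M₀)
  have hn' : ∀ r ∈ M₀ ^ n, r • x ∈ K := fun r hr => hn hr
  clear hn h hrad
  induction n generalizing x with
  | zero => simpa using hn' 1 (by simp)
  | succ n ih =>
    refine ih fun r hr => hK _ fun s hs => ?_
    rw [← mul_smul, mul_comm s r]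
    exact hn' _ (by rw [pow_succ]; exact Ideal.mul_mem_mul hr hs)

variable [IsLocalRing R] [IsNoetherianRing B] [Module.Flat R B]

/-- A map from a base change which is an isomorphism off the closed fibre is an isomorphism, given regular pairs. -/
theorem bijective_liftBaseChange {a b : R} (hma : a ∈ maximalIdeal R) (hmb : b ∈ maximalIdeal R)
    (h1 : ∀ m : M, a • m = 0 → m = 0) (h2 : ∀ m w : M, b • m = a • w → ∃ w', m = a • w')
    (hN : ∀ c : N, a • c = 0 → c = 0) (κ : M →ₗ[R] N)
    (hpt : ∀ Q : Ideal B, Q.IsPrime → ¬ (maximalIdeal R).map (algebraMap R B) ≤ Q →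
      ∃ (J : Type u) (_ : Fintype J) (m : J → M),
        (∀ n : M, ∃ σ : R, algebraMap R B σ ∉ Q ∧ σ • n ∈ Submodule.span R (Set.range m)) ∧
        (∀ c : N, ∃ q ∉ Q, q • c ∈ Submodule.span B (Set.range fun j => κ (m j))) ∧
        ∀ β : J → B, ∑ j, β j • κ (m j) = 0 → ∀ j, ∃ q ∉ Q, q * β j = 0) :
    Function.Bijective (κ.liftBaseChange B) := by
  classical
  let φ := κ.liftBaseChange B
  let M₀ : Ideal B := (maximalIdeal R).map (algebraMap R B)
  obtain ⟨g1, g2⟩ := tensor_regular_pair (B := B) h1 h2
  have hinj : Function.Injective φ := by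
    refine (injective_iff_map_eq_zero φ).2 fun z hz => ?_
    refine (Submodule.mem_bot B).1 (mem_of_forall_prime (M₀ := M₀) (K := (⊥ : Submodule B (B ⊗[R] M)))
      (fun x hx => ?_) fun Q hQ hMQ => ?_)
    · have := hx _ (Ideal.mem_map_of_mem _ hma)
      rw [algebraMap_smul] at this
      exact (Submodule.mem_bot B).2 (g1 x ((Submodule.mem_bot B).1 this))
    · obtain ⟨J, hJ, m, hspan, -, hind⟩ := hpt Q hQ hMQ
      -- write a multiple of `z` through the sections `m`
      have key : ∀ w : B ⊗[R] M, ∃ t ∉ Q, ∃ β : J → B, t • w = ∑ j, β j ⊗ₜ[R] m j := by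
        intro w
        induction w using TensorProduct.induction_on with
        | zero => exact ⟨1, hQ.one_notMem, 0, by simp⟩
        | tmul x n =>
          obtain ⟨σ, hσ, hn⟩ := hspan n
          obtain ⟨α, hα⟩ := (Submodule.mem_span_range_iff_exists_fun R).1 hn
          refine ⟨algebraMap R B σ, hσ, fun j => α j • x, ?_⟩
          rw [algebraMap_smul, ← TensorProduct.tmul_smul, ← hα, TensorProduct.tmul_sum]
          exact Finset.sum_congr rfl fun j _ => by rw [TensorProduct.smul_tmul]
        | add v w hv hw =>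
          obtain ⟨s, hs, β, hβ⟩ := hv
          obtain ⟨t, ht, γ, hγ⟩ := hw
          refine ⟨s * t, fun h => (hQ.mem_or_mem h).elim hs ht, fun j => t * β j + s * γ j, ?_⟩
          rw [smul_add, mul_comm s t, mul_smul, hβ, mul_comm t s, mul_smul, hγ, Finset.smul_sum, Finset.smul_sum,
            ← Finset.sum_add_distrib]
          exact Finset.sum_congr rfl fun j _ => by simp [TensorProduct.smul_tmul', TensorProduct.add_tmul]
      obtain ⟨t, ht, β, hβ⟩ := key z
      have h0 : ∑ j, β j • κ (m j) = 0 := by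
        have := congrArg φ hβ
        rw [map_smul, hz, smul_zero, map_sum] at this
        rw [this]
        exact Finset.sum_congr rfl fun j _ => (κ.liftBaseChange_tmul B _ _).symm
      choose q hq hqβ using hind β h0
      refine ⟨(∏ j, q j) * t, fun h => (hQ.mem_or_mem h).elim (fun h' => ?_) ht, ?_⟩
      · obtain ⟨j, -, hj⟩ := hQ.prod_mem_iff.1 h'
        exact hq j hj
      · rw [mul_smul, hβ, Finset.smul_sum, Submodule.mem_bot]
        refine Finset.sum_eq_zero fun j _ => ?_
        rw [TensorProduct.smul_tmul', smul_eq_mul, ← Finset.prod_erase_mul _ _ (Finset.mem_univ j), mul_assoc, hqβ,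
          mul_zero, TensorProduct.zero_tmul]
  refine ⟨hinj, fun c => ?_⟩
  refine LinearMap.mem_range.1 (mem_of_forall_prime (M₀ := M₀) (K := LinearMap.range φ) (fun x hx => ?_)
    fun Q hQ hMQ => ?_)
  · obtain ⟨p, hp⟩ := hx _ (Ideal.mem_map_of_mem _ hma)
    obtain ⟨q, hq⟩ := hx _ (Ideal.mem_map_of_mem _ hmb)
    rw [algebraMap_smul] at hp hq
    have hpq : b • p = a • q := hinj (by
      rw [LinearMap.map_smul_of_tower, LinearMap.map_smul_of_tower, hp, hq, smul_comm])
    obtain ⟨p', rfl⟩ := g2 p q hpq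
    refine ⟨p', sub_eq_zero.1 (hN _ ?_)⟩
    rw [smul_sub, sub_eq_zero, ← hp, LinearMap.map_smul_of_tower]
  · obtain ⟨J, hJ, m, -, hgen, -⟩ := hpt Q hQ hMQ
    obtain ⟨q, hq, hqc⟩ := hgen c
    refine ⟨q, hq, (Submodule.span_le.2 ?_) hqc⟩
    rintro _ ⟨j, rfl⟩
    exact ⟨(1 : B) ⊗ₜ[R] m j, (κ.liftBaseChange_tmul B _ _).trans (one_smul _ _)⟩

end Groth.Agent.FreeDescent
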