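import Groth.Agent.SurfBl13.Frame
import Groth.Agent.Clifford24.StalkBasis

/-!
# Frames near a fibre
-/

set_option autoImplicit false
set_option linter.style.haveILetI false
set_option backward.isDefEq.respectTransparency.types false
set_option maxHeartbeats 1000000

universe u

open CategoryTheory CategoryTheory.Limits AlgebraicGeometry Opposite TopologicalSpace
open Groth.Agent.Coherent Groth.Agent.PicLib Groth.Agent.AmpleLib Groth.Agent.FlatMor12 Groth.Agent.FlatMor12.FreeCharts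

namespace Groth.Agent.FreeDescent

variable {X T : Scheme.{u}} {I : Type u} [Fintype I]

/-- Global sections restricting to a frame on a closed subscheme form a frame near it. -/
theorem exists_basis_of_restrict (σ : T ⟶ X) {E : X.Modules} (hE : FlatMod.IsFinLocFree E)
    {U₁ : X.Opens} (s : I → Γ(E, U₁)) (ht : IsBasisOn ((Scheme.Modules.pullback σ).obj E) (σ ⁻¹ᵁ U₁) fun i => pullSec σ (s i))
    (z' : T) (hz₁ : σ z' ∈ U₁) :
    ∃ (W : X.Opens) (hW : W ≤ U₁), σ z' ∈ W ∧ IsBasisOn E W fun i => resM E hW (s i) := by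
  classical
  obtain ⟨U₀, ρn, e₀, hzU₀, he₀⟩ := exists_isBasisOn hE (σ z')
  obtain ⟨U, hU, hzU, hUle⟩ := exists_isAffineOpen_mem_and_subset (x := σ z') (U := U₀ ⊓ U₁) ⟨hzU₀, hz₁⟩
  have hU₁ : U ≤ U₁ := fun y hy => (hUle hy).2
  have hσU : σ ⁻¹ᵁ U ≤ σ ⁻¹ᵁ U₁ := fun y hy => hU₁ hy
  have heU := isBasisOn_res he₀ (fun y hy => (hUle hy).1 : U ≤ U₀)
  have hcard : Fintype.card I = Fintype.card (ULift.{u} (Fin ρn)) :=
    card_eq_of_isBasisOn ht (heU.pull σ) (hσU : σ ⁻¹ᵁ U ≤ σ ⁻¹ᵁ U₁) le_rfl (p := z') hzU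
  have he := isBasisOn_comp_equiv heU (Fintype.equivOfCardEq hcard)
  generalize (fun j => resM E (fun y hy => (hUle hy).1 : U ≤ U₀) (e₀ (Fintype.equivOfCardEq hcard j))) = e at he
  have hp := he.pull σ
  let θ : I → Γ(E, U) := fun j => resM E hU₁ (s j)
  let P : I → I → Γ(X, U) := fun i j => he.coef le_rfl (θ j) i
  have hPθ : ∀ j, ∑ i, P i j • e i = θ j := fun j => by
    have := he.coef_spec le_rfl (θ j)
    simpa only [resM_self] using this
  have hθ : ∀ j, pullSec σ (θ j) = resM _ hσU (pullSec σ (s j)) := fun j => (resM_pullSec σ hU₁ (s j)).symm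
  have ht' := isBasisOn_res ht hσU
  let Q : Matrix I I Γ(T, σ ⁻¹ᵁ U) := fun j k => ht'.coef le_rfl (pullSec σ (e k)) j
  have hPQ : (Matrix.of P).map (σ.app U).hom * Q = 1 := by
    ext i k
    have hk := ht'.coef_spec le_rfl (pullSec σ (e k))
    simp only [resM_self] at hk
    have h1 : hp.coef le_rfl (pullSec σ (e k)) =
        fun i => ∑ j, ht'.coef le_rfl (pullSec σ (e k)) j * σ.app U (P i j) := by
      refine hp.coef_eq _ ?_
      conv_rhs => rw [← hk]
      simp only [← hθ, ← hPθ, pullSec_sum, pullSec_smul, Finset.smul_sum, Finset.sum_smul, smul_smul, resM_self]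
      rw [Finset.sum_comm]
    have h2 := hp.coef_self le_rfl k
    rw [resM_self] at h2
    have h3 := congrFun (h1.symm.trans h2) i
    rw [Matrix.mul_apply, Matrix.one_apply, ← h3]
    exact Finset.sum_congr rfl fun j _ => mul_comm _ _
  have hdet : IsUnit (σ.app U (Matrix.of P).det) := by
    have := congrArg Matrix.det hPQ
    rw [Matrix.det_mul, Matrix.det_one] at this
    show IsUnit ((σ.app U).hom _)
    rw [RingHom.map_det]
    exact IsUnit.of_mul_eq_one _ this
  have hzb : σ z' ∈ X.basicOpen (Matrix.of P).det := by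
    show z' ∈ σ ⁻¹ᵁ X.basicOpen _
    rw [Scheme.preimage_basicOpen, T.basicOpen_of_isUnit hdet]
    exact hzU
  let W := X.basicOpen (Matrix.of P).det
  have hW : W ≤ U := X.basicOpen_le _
  refine ⟨W, hW.trans hU₁, hzb, ?_⟩
  have h := isBasisOn_of_matrix hW he (fun j => resM E hW (θ j))
    ((Matrix.of P).map (X.presheaf.map (homOfLE hW).op).hom) (fun j => ?_) ?_
  · simpa only [θ, resM_resM] using h
  · show resM E hW (θ j) = _
    rw [← hPθ, map_sum]
    exact Finset.sum_congr rfl fun i _ => resM_smul _ _ _ _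
  · have h := RingedSpace.isUnit_res_basicOpen X.toRingedSpace (Matrix.of P).det
    have h' : IsUnit ((X.presheaf.map (homOfLE hW).op).hom (Matrix.of P).det) := h
    rwa [RingHom.map_det] at h'

/-- Being a frame is local. -/
theorem isBasisOn_of_locally {M : X.Modules} {U U₁ : X.Opens} (hU₁ : U ≤ U₁) (s : I → Γ(M, U₁))
    (h : ∀ x ∈ U, ∃ (W : X.Opens) (hW : W ≤ U₁), x ∈ W ∧ IsBasisOn M W fun i => resM M hW (s i)) :
    IsBasisOn M U fun i => resM M hU₁ (s i) := by
  classical
  intro V hV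
  choose W hW₁ hxW hW using fun x : V => h x.1 (hV x.2)
  have hcov : V ≤ ⨆ x : V, V ⊓ W x := fun y hy => Opens.mem_iSup.2 ⟨⟨y, hy⟩, hy, hxW _⟩
  have hsum : ∀ (x : V) (c : I → Γ(X, V)), ∑ i, PicLib.res (inf_le_left : V ⊓ W x ≤ V) (c i) •
      resM M (inf_le_right : V ⊓ W x ≤ W x) (resM M (hW₁ x) (s i)) =
        resM M (inf_le_left : V ⊓ W x ≤ V) (∑ i, c i • resM M hV (resM M hU₁ (s i))) := fun x c => by
    rw [map_sum]
    refine Finset.sum_congr rfl fun i _ => ?_
    rw [resM_smul, resM_resM, resM_resM, resM_resM]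
  refine ⟨fun c d hcd => funext fun i => TopCat.Sheaf.eq_of_locally_eq' X.sheaf (fun x : V => V ⊓ W x) V
    (fun x => homOfLE inf_le_left) hcov (c i) (d i) fun x => ?_, fun m => ?_⟩
  · exact congrFun ((hW x (inf_le_right : V ⊓ W x ≤ W x)).1
      ((hsum x c).trans ((congrArg _ hcd).trans (hsum x d).symm))) i
  · let cx : ∀ x : V, I → Γ(X, V ⊓ W x) := fun x => (hW x).coef inf_le_right (resM M inf_le_left m)
    have hcx : ∀ (x : V) {O : X.Opens} (hO : O ≤ V ⊓ W x),
        (hW x).coef (hO.trans inf_le_right) (resM M (hO.trans inf_le_left) m) = fun i => PicLib.res hO (cx x i) := by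
      intro x O hO
      refine (hW x).coef_eq _ ?_
      have := congrArg (resM M hO) ((hW x).coef_spec (inf_le_right : V ⊓ W x ≤ W x) (resM M inf_le_left m))
      rw [map_sum, resM_resM] at this
      refine Eq.trans (Finset.sum_congr rfl fun i _ => ?_) this
      rw [resM_smul, resM_resM, resM_resM, resM_resM]
    have hcompat : ∀ (i : I) (x y : V), PicLib.res (inf_le_left : (V ⊓ W x) ⊓ (V ⊓ W y) ≤ V ⊓ W x) (cx x i) =
        PicLib.res inf_le_right (cx y i) := by
      intro i x y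
      let O := (V ⊓ W x) ⊓ (V ⊓ W y)
      have h1 : ∀ (z : V) (hO : O ≤ V ⊓ W z), ∑ j, PicLib.res hO (cx z j) • resM M ((hO.trans inf_le_right).trans (hW₁ z)) (s j) =
          resM M (hO.trans inf_le_left) m := fun z hO => by
        rw [← (hW z).coef_spec (hO.trans inf_le_right) (resM M (hO.trans inf_le_left) m), hcx z hO]
        exact Finset.sum_congr rfl fun j _ => by rw [resM_resM]
      refine congrFun ((hW x (inf_le_left.trans inf_le_right : O ≤ W x)).1
        (a₁ := fun j => PicLib.res (inf_le_left : O ≤ V ⊓ W x) (cx x j))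
        (a₂ := fun j => PicLib.res (inf_le_right : O ≤ V ⊓ W y) (cx y j)) ?_) i
      simp only [resM_resM]
      exact (h1 x inf_le_left).trans (h1 y inf_le_right).symm
    choose c hc using fun i => (TopCat.Sheaf.existsUnique_gluing' X.sheaf (fun x : V => V ⊓ W x) V
      (fun x => homOfLE inf_le_left) hcov (fun x => cx x i) (fun x y => hcompat i x y)).exists
    refine ⟨c, TopCat.Sheaf.eq_of_locally_eq' (⟨M.presheaf, M.isSheaf⟩ : TopCat.Sheaf Ab X)
      (fun x : V => V ⊓ W x) V (fun x => homOfLE inf_le_left) hcov _ _ fun x => ?_⟩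
    refine (hsum x c).symm.trans ?_
    rw [← (hW x).coef_spec (inf_le_right : V ⊓ W x ≤ W x) (resM M inf_le_left m)]
    exact Finset.sum_congr rfl fun i _ => congrArg (· • _) (hc i x)

/-- Sections whose germs form a basis of a stalk form a frame near that point. -/
theorem exists_frame_of_germ {E : X.Modules} (hE : FlatMod.IsFinLocFree E) {U₁ : X.Opens} (s : I → Γ(E, U₁))
    {x : X} (hx : x ∈ U₁) (b : Module.Basis I (X.presheaf.stalk x) (E.presheaf.stalk x))
    (hb : ∀ i, b i = E.presheaf.germ U₁ x hx (s i)) :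
    ∃ (W : X.Opens) (hW : W ≤ U₁), x ∈ W ∧ IsBasisOn E W fun i => resM E hW (s i) := by
  classical
  obtain ⟨U₀, ρn, e₀, hxU₀, he₀⟩ := exists_isBasisOn hE x
  let U := U₀ ⊓ U₁
  have hxU : x ∈ U := ⟨hxU₀, hx⟩
  have heU := isBasisOn_res he₀ (inf_le_left : U ≤ U₀)
  obtain ⟨c₀, -⟩ := Clifford24.exists_basis_germ heU hxU
  let σ := b.indexEquiv c₀
  have he := isBasisOn_comp_equiv heU σ
  generalize (fun j => resM E (inf_le_left : U ≤ U₀) (e₀ (σ j))) = e at he
  obtain ⟨c, hc⟩ := Clifford24.exists_basis_germ he hxU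
  let P : Matrix I I Γ(X, U) := fun i j => he.coef le_rfl (resM E inf_le_right (s j)) i
  have hPθ : ∀ j, ∑ i, P i j • e i = resM E (inf_le_right : U ≤ U₁) (s j) := fun j => by
    have := he.coef_spec le_rfl (resM E (inf_le_right : U ≤ U₁) (s j))
    simpa only [resM_self] using this
  have hPc : P.map (X.presheaf.germ U x hxU).hom = c.toMatrix b := by
    ext i j
    have h1 : b j = ∑ k, X.presheaf.germ U x hxU (P k j) • c k := by
      rw [hb, ← E.presheaf.germ_res_apply (homOfLE (inf_le_right : U ≤ U₁)) x hxU (s j)]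
      change E.presheaf.germ U x hxU (resM E (inf_le_right : U ≤ U₁) (s j)) = _
      rw [← hPθ, map_sum]
      exact Finset.sum_congr rfl fun k _ => by rw [QCohLoc.germ_smul', hc]
    rw [Matrix.map_apply, Module.Basis.toMatrix_apply, h1, c.repr_sum_self]
  have hdet : IsUnit (X.presheaf.germ U x hxU P.det) := by
    show IsUnit ((X.presheaf.germ U x hxU).hom _)
    rw [RingHom.map_det]
    show IsUnit (P.map (X.presheaf.germ U x hxU).hom).det
    rw [hPc]
    exact IsUnit.of_mul_eq_one _ (by rw [← Matrix.det_mul, c.toMatrix_mul_toMatrix_flip b, Matrix.det_one])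
  let W := X.basicOpen P.det
  have hW : W ≤ U := X.basicOpen_le _
  refine ⟨W, hW.trans inf_le_right, (X.mem_basicOpen P.det x hxU).2 hdet, ?_⟩
  have h := isBasisOn_of_matrix hW he (fun j => resM E hW (resM E (inf_le_right : U ≤ U₁) (s j)))
    (P.map (X.presheaf.map (homOfLE hW).op).hom) (fun j => ?_) ?_
  · simpa only [resM_resM] using h
  · show resM E hW _ = _
    rw [← hPθ, map_sum]
    exact Finset.sum_congr rfl fun i _ => resM_smul _ _ _ _
  · have h := RingedSpace.isUnit_res_basicOpen X.toRingedSpace P.det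
    have h' : IsUnit ((X.presheaf.map (homOfLE hW).op).hom P.det) := h
    rwa [RingHom.map_det] at h'

/-- The locus over which a module has a frame pulled back from the base. -/
def Good {S : Scheme.{u}} (f : X ⟶ S) (E : X.Modules) (s : S) : Prop :=
  ∃ (U : S.Opens) (J : Type u) (_ : Fintype J) (t : J → Γ(E, f ⁻¹ᵁ U)),
    s ∈ U ∧ IsAffineOpen U ∧ IsBasisOn E (f ⁻¹ᵁ U) t

/-- For a closed map, frames along a fibre give a frame over a neighbourhood. -/
theorem good_of_frames {S : Scheme.{u}} (f : X ⟶ S) [UniversallyClosed f] (E : X.Modules) {s : S} {U : S.Opens} (hs : s ∈ U)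
    (t : I → Γ(E, f ⁻¹ᵁ U))
    (h : ∀ x : X, f x = s → ∃ (W : X.Opens) (hW : W ≤ f ⁻¹ᵁ U), x ∈ W ∧ IsBasisOn E W fun i => resM E hW (t i)) :
    Good f E s := by
  let O : Set X := {x | ∃ (W : X.Opens) (hW : W ≤ f ⁻¹ᵁ U), x ∈ W ∧ IsBasisOn E W fun i => resM E hW (t i)}
  have hO : IsOpen O := by
    refine isOpen_iff_forall_mem_open.2 fun x ⟨W, hW, hx, hb⟩ => ⟨W, fun y hy => ⟨W, hW, hy, hb⟩, W.2, hx⟩
  have hc : IsClosed (f '' Oᶜ) := f.isClosedMap _ hO.isClosed_compl
  let V : S.Opens := U ⊓ ⟨(f '' Oᶜ)ᶜ, hc.isOpen_compl⟩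
  have hsV : s ∈ V := ⟨hs, fun ⟨x, hx, hxs⟩ => hx (h x hxs)⟩
  obtain ⟨U', hU', hsU', hle⟩ := exists_isAffineOpen_mem_and_subset (x := s) (U := V) hsV
  have hUU : f ⁻¹ᵁ U' ≤ f ⁻¹ᵁ U := fun y hy => (hle hy).1
  refine ⟨U', I, ‹_›, fun i => resM E hUU (t i), hsU', hU', isBasisOn_of_locally hUU t fun x hx => ?_⟩
  by_contra hne
  exact (hle hx).2 ⟨x, hne, rfl⟩

end Groth.Agent.FreeDescent
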