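import Groth.Agent.FreeDescent.Step
import Groth.Agent.CohExch.FlatBC0
import Groth.Agent.CAlgH3.Serre
import Groth.Prelude.Def_Pi1
import Mathlib

/-!
# Descent of a bundle free over the points of codimension at most one
-/

set_option autoImplicit false
set_option linter.style.haveILetI false
set_option backward.isDefEq.respectTransparency.types false
set_option backward.isDefEq.respectTransparency false
set_option maxHeartbeats 1000000

universe u

open CategoryTheory CategoryTheory.Limits AlgebraicGeometry Opposite TopologicalSpace IsLocalRing TensorProduct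
open Groth.Agent.Coherent Groth.Agent.PicLib Groth.Agent.Misc15.DivDescent Groth.Agent.AmpleLib
open Groth.Agent.FlatMor12 Groth.Agent.FlatMor12.FreeCharts

namespace Groth.Agent.FreeDescent

variable {X S : Scheme.{u}} (f : X ⟶ S) (E : X.Modules)

theorem exists_point_over [UniversallyClosed f] (hO : ∀ U : S.Opens, Function.Bijective (f.app U).hom) (s : S) :
    ∃ x : X, f x = s := by
  by_contra! hne
  let V : S.Opens := ⟨(Set.range f)ᶜ, f.isClosedMap.isClosed_range.isOpen_compl⟩
  have hsV : s ∈ V := fun ⟨x, hx⟩ => hne x hx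
  have hbot : f ⁻¹ᵁ V = ⊥ := by
    ext x
    simp [V]
  haveI : Subsingleton Γ(X, f ⁻¹ᵁ V) := by
    rw [hbot]
    exact CommRingCat.subsingleton_of_isTerminal X.sheaf.isTerminalOfEmpty
  have : Subsingleton Γ(S, V) := (hO V).1.subsingleton
  have h1 := congrArg (S.presheaf.germ V s hsV) (Subsingleton.elim (1 : Γ(S, V)) 0)
  rw [map_one, map_zero] at h1
  exact one_ne_zero h1

/-- Over a point where the module becomes free after localising the base there is a frame. -/
theorem good_of_free [Flat f] [IsProper f] (hE : FlatMod.IsFinLocFree E) (s : S) {r : ℕ}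
    (e : (Scheme.Modules.pullback (pullback.fst f (S.fromSpecStalk s))).obj E ≅
      FlatMod.freeMod (pullback f (S.fromSpecStalk s)) r) : Good f E s := by
  classical
  haveI : Coh.IsQCoh E := (CohBC.isCoh_of_isFinLocFree hE).1
  let g := S.fromSpecStalk s
  let g' := pullback.fst f g
  let f' := pullback.snd f g
  have hsq : IsPullback g' f' f g := IsPullback.of_hasPullback f g
  haveI : Flat g := Props12.flat_fromSpecStalk s
  obtain ⟨ev, hev⟩ := exists_isBasisOn_top e
  obtain ⟨U, hU, hsU, -⟩ : ∃ U : S.Opens, IsAffineOpen U ∧ s ∈ U ∧ (U : Set S) ⊆ Set.univ := by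
    obtain ⟨_, ⟨U, hU, rfl⟩, h1, h2⟩ := S.isBasis_affineOpens.exists_subset_of_mem_open (Set.mem_univ s) isOpen_univ
    exact ⟨U, hU, h1, h2⟩
  have le : (⊤ : (Spec (S.presheaf.stalk s)).Opens) ≤ g ⁻¹ᵁ U := fun p _ =>
    (show g p ⤳ s from (Scheme.range_fromSpecStalk (X := S) (x := s)).le ⟨p, rfl⟩).mem_open U.isOpen hsU
  let G := (Scheme.Modules.pushforward f).obj E
  haveI : Coh.IsQCoh G := Coherent.isQCoh_push f E
  let T : (Spec (S.presheaf.stalk s)).Opens := ⊤
  have hT : IsAffineOpen T := isAffineOpen_top _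
  obtain ⟨μ, hμ, hμe⟩ := EGA43.InjFibre.pullMap_isBaseChange g hU hT le (M := G)
  letI := (g.appLE U T le).hom.toAlgebra
  have happ : ∀ a : Γ(S, U), (g.appLE U T le).hom a =
      (Scheme.ΓSpecIso (S.presheaf.stalk s)).inv.hom (S.presheaf.germ U s hsU a) := by
    intro a
    have h1 : g.appLE U T le = S.presheaf.germ U s hsU ≫ (Scheme.ΓSpecIso (S.presheaf.stalk s)).inv := by
      show g.app U ≫ _ = _
      simp only [g, Scheme.fromSpecStalk_app hsU, Category.assoc, ← Functor.map_comp]
      exact congrArg (S.presheaf.germ U s hsU ≫ ·) ((congrArg ((Scheme.ΓSpecIso (S.presheaf.stalk s)).inv ≫ ·)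
        ((Spec (S.presheaf.stalk s)).presheaf.map_id (op ⊤))).trans (Category.comp_id _))
    rw [h1]
    rfl
  -- every function on the local scheme is a fraction
  have hfrac : ∀ β : Γ(Spec (S.presheaf.stalk s), T), ∃ a σ : Γ(S, U), IsUnit ((g.appLE U T le).hom σ) ∧
      (g.appLE U T le).hom σ * β = (g.appLE U T le).hom a := by
    intro β
    obtain ⟨β', rfl⟩ : ∃ β', (Scheme.ΓSpecIso (S.presheaf.stalk s)).inv.hom β' = β :=
      ⟨_, (Scheme.ΓSpecIso (S.presheaf.stalk s)).hom_inv_id_apply β⟩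
    letI := S.presheaf.algebra_section_stalk (⟨s, hsU⟩ : U)
    haveI := hU.isLocalization_stalk ⟨s, hsU⟩
    obtain ⟨⟨a, σ⟩, h⟩ := IsLocalization.surj (hU.primeIdealOf ⟨s, hsU⟩).asIdeal.primeCompl β'
    refine ⟨a, σ, ?_, ?_⟩
    · rw [happ]
      exact (IsLocalization.map_units (S.presheaf.stalk s) σ).map _
    · rw [happ, happ, ← map_mul, mul_comm]
      exact congrArg _ h
  letI := Module.compHom Γ((Scheme.Modules.pullback g).obj G, T) (g.appLE U T le).hom
  haveI : IsScalarTower Γ(S, U) Γ(Spec (S.presheaf.stalk s), T) Γ((Scheme.Modules.pullback g).obj G, T) :=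
    IsScalarTower.of_algebraMap_smul fun _ _ => rfl
  have hz : ∀ z : Γ((Scheme.Modules.pullback g).obj G, T), ∃ (σ : Γ(S, U)) (m : Γ(G, U)),
      IsUnit ((g.appLE U T le).hom σ) ∧ (g.appLE U T le).hom σ • z = μ m := by
    intro z
    induction z using hμ.inductionOn with
    | zero => exact ⟨1, 0, by simp, by simp⟩
    | tmul m => exact ⟨1, m, by simp, by simp⟩
    | smul β v hv =>
      obtain ⟨σ, m, hσ, hm⟩ := hv
      obtain ⟨a, τ, hτ, ha⟩ := hfrac β
      refine ⟨τ * σ, a • m, by rw [map_mul]; exact hτ.mul hσ, ?_⟩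
      rw [map_mul, mul_smul, smul_comm _ β v, ← mul_smul, ha, hm, μ.map_smul]
      rfl
    | add v w hv hw =>
      obtain ⟨σ, m, hσ, hm⟩ := hv
      obtain ⟨τ, n, hτ, hn⟩ := hw
      refine ⟨σ * τ, τ • m + σ • n, by rw [map_mul]; exact hσ.mul hτ, ?_⟩
      rw [map_mul, smul_add, mul_comm, mul_smul, hm, mul_comm, mul_smul, hn, map_add, μ.map_smul, μ.map_smul]
      rfl
  have hbc := CohExch.bijective_bc0_app_of_flat hsq E hU hT le
  choose z hzv using fun i => hbc.2 (show Γ((Scheme.Modules.pullback g').obj E, f' ⁻¹ᵁ T) from ev i)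
  choose σ m hσ hm using fun i => hz (z i)
  have hO₁ : f' ⁻¹ᵁ T ≤ g' ⁻¹ᵁ (f ⁻¹ᵁ U) := fun p _ => by
    show f (g' p) ∈ U
    have : f (g' p) = g (f' p) := congr($(hsq.w) p)
    rw [this]
    exact le trivial
  let c : ULift.{u} (Fin r) → Γ(pullback f g, f' ⁻¹ᵁ T) := fun i => (f'.app T).hom ((g.appLE U T le).hom (σ i))
  have hc : ∀ i, IsUnit (c i) := fun i => (hσ i).map _
  let θ : ULift.{u} (Fin r) → Γ((Scheme.Modules.pullback g').obj E, f' ⁻¹ᵁ T) := fun i =>
    resM _ hO₁ (pullSec g' (show Γ(E, f ⁻¹ᵁ U) from m i))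
  have hθ : ∀ i, θ i = c i • (show Γ((Scheme.Modules.pullback g').obj E, f' ⁻¹ᵁ T) from ev i) := fun i => by
    rw [← hzv]
    refine Eq.trans ?_ (Scheme.Modules.Hom.app_smul (CohBC.bc0 f g f' g' hsq.w E) ((g.appLE U T le).hom (σ i)) (z i))
    rw [hm, hμe, Coherent.pullMap_eq_resM_pullSec, app_resM, CohExch.bc0_pullSec]
    exact (resM_resM _ _ _ _).symm
  have hev' : IsBasisOn ((Scheme.Modules.pullback g').obj E) (f' ⁻¹ᵁ T) θ := by
    refine isBasisOn_of_matrix (W := f' ⁻¹ᵁ T) le_top hev θ (Matrix.diagonal c) (fun j => ?_) ?_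
    · rw [Finset.sum_eq_single j (fun k _ hk => by rw [Matrix.diagonal_apply_ne _ hk, zero_smul])
        (fun h => absurd (Finset.mem_univ _) h), Matrix.diagonal_apply_eq, hθ]
      exact congrArg (c j • ·) (resM_self _ _ (ev j)).symm
    · rw [Matrix.det_diagonal]
      exact IsUnit.prod_univ_iff.2 hc
  have hT1 : g' ⁻¹ᵁ (f ⁻¹ᵁ U) ≤ f' ⁻¹ᵁ T := fun p _ => trivial
  have ht : IsBasisOn ((Scheme.Modules.pullback g').obj E) (g' ⁻¹ᵁ (f ⁻¹ᵁ U))
      fun i => pullSec g' (show Γ(E, f ⁻¹ᵁ U) from m i) := by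
    convert isBasisOn_res hev' hT1 using 1
    funext i
    exact ((resM_resM _ hO₁ hT1 _).trans (resM_self _ _ _)).symm
  refine good_of_frames f E hsU (fun i => (show Γ(E, f ⁻¹ᵁ U) from m i)) fun x hx => ?_
  obtain ⟨x', hx', -⟩ := Scheme.Pullback.exists_preimage_pullback (f := f) (g := g) x
    (closedPoint (S.presheaf.stalk s)) (hx.trans Scheme.fromSpecStalk_closedPoint.symm)
  obtain ⟨W, hW, hxW, hb⟩ := exists_basis_of_restrict g' hE _ ht x' (show f (g' x') ∈ U by
    rw [show g' x' = x from hx', hx]; exact hsU)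
  exact ⟨W, hW, hx' ▸ hxW, hb⟩

/-- Over a point with a regular pair, frames at the proper generisations give a frame. -/
theorem good_of_regPair [Flat f] [IsProper f] [IsLocallyNoetherian S] (hS : ∀ s : S, IsDomain (S.presheaf.stalk s))
    (hE : FlatMod.IsFinLocFree E) (hO : ∀ U : S.Opens, Function.Bijective (f.app U).hom) (s : S)
    (hreg : RegPair (S.presheaf.stalk s)) (hgood : ∀ u : S, u ⤳ s → u ≠ s → Good f E u) : Good f E s := by
  classical
  haveI : IsLocallyNoetherian X := LocallyOfFiniteType.isLocallyNoetherian f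
  have hEc : Coh.IsCoh E := CohBC.isCoh_of_isFinLocFree hE
  let G := (Scheme.Modules.pushforward f).obj E
  have hGc : Coh.IsCoh G := Existence.isCoh_push_of_isProper f hEc
  haveI := AssSch12.finite_stalk hGc s
  haveI : Module.FinitePresentation (S.presheaf.stalk s) (G.presheaf.stalk s) := Module.finitePresentation_of_finite _ _
  obtain ⟨x₀, hx₀⟩ := exists_point_over f hO s
  subst hx₀
  haveI : Module.Free (S.presheaf.stalk (f x₀)) (G.presheaf.stalk (f x₀)) := by
    letI := (f.stalkMap x₀).hom.toAlgebra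
    letI := Module.compHom (E.presheaf.stalk x₀) (f.stalkMap x₀).hom
    haveI : IsScalarTower (S.presheaf.stalk (f x₀)) (X.presheaf.stalk x₀) (E.presheaf.stalk x₀) :=
      IsScalarTower.of_algebraMap_smul fun _ _ => rfl
    obtain ⟨κ, -, hκ⟩ := bijective_stalk f E hS hE x₀ hreg hO hgood
    obtain ⟨U, n, e, hxU, he⟩ := exists_isBasisOn hE x₀
    obtain ⟨bN, -⟩ := Clifford24.exists_basis_germ he hxU
    haveI : Module.Free (X.presheaf.stalk x₀) (X.presheaf.stalk x₀ ⊗[S.presheaf.stalk (f x₀)] G.presheaf.stalk (f x₀)) :=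
      Module.Free.of_basis (bN.map (LinearEquiv.ofBijective _ hκ).symm)
    haveI : Module.Flat (S.presheaf.stalk (f x₀)) (X.presheaf.stalk x₀) := Flat.stalkMap f x₀
    haveI : IsLocalHom (algebraMap (S.presheaf.stalk (f x₀)) (X.presheaf.stalk x₀)) :=
      inferInstanceAs (IsLocalHom (f.stalkMap x₀).hom)
    haveI := Module.FaithfullyFlat.of_flat_of_isLocalHom
      (A := S.presheaf.stalk (f x₀)) (B := X.presheaf.stalk x₀)
    haveI := Module.Flat.of_flat_tensorProduct (S.presheaf.stalk (f x₀)) (G.presheaf.stalk (f x₀))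
      (X.presheaf.stalk x₀)
    exact Module.free_of_flat_of_isLocalRing
  generalize hs : f x₀ = s at *
  let bM := Module.Free.chooseBasis (S.presheaf.stalk s) (G.presheaf.stalk s)
  choose W hW τ hτ using fun j => G.presheaf.exists_germ_eq (bM j)
  let U : S.Opens := Finset.univ.inf W
  have hin : ∀ t : Finset _, s ∈ t.inf W := fun t => by
    induction t using Finset.induction_on with
    | empty => rw [Finset.inf_empty]; exact trivial
    | insert j t _ ih => rw [Finset.inf_insert]; exact ⟨hW j, ih⟩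
  have hsU : s ∈ U := hin _
  let t : _ → Γ(G, U) := fun j => resM G (Finset.inf_le (Finset.mem_univ j)) (τ j)
  have ht : ∀ j, G.presheaf.germ U s hsU (t j) = bM j := fun j =>
    (G.presheaf.germ_res_apply _ s hsU _).trans (hτ j)
  refine good_of_frames f E hsU (fun j => (show Γ(E, f ⁻¹ᵁ U) from t j)) fun x hx => ?_
  subst hx
  letI := (f.stalkMap x).hom.toAlgebra
  letI := Module.compHom (E.presheaf.stalk x) (f.stalkMap x).hom
  haveI : IsScalarTower (S.presheaf.stalk (f x)) (X.presheaf.stalk x) (E.presheaf.stalk x) :=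
    IsScalarTower.of_algebraMap_smul fun _ _ => rfl
  obtain ⟨κ, hκk, hκ⟩ := bijective_stalk f E hS hE x hreg hO hgood
  refine exists_frame_of_germ hE _ (show x ∈ f ⁻¹ᵁ U from hsU)
    ((bM.baseChange (X.presheaf.stalk x)).map (LinearEquiv.ofBijective _ hκ)) fun j => ?_
  rw [Module.Basis.map_apply, Module.Basis.baseChange_apply, LinearEquiv.ofBijective_apply,
    LinearMap.liftBaseChange_tmul, one_smul, hκk, ← ht]
  exact kappa_germ f E x U hsU (t j)

/-- Frames exist everywhere, by induction on the generisations. -/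
theorem good_all [Flat f] [IsProper f] [IsLocallyNoetherian S] (hS : ∀ s : S, IsDomain (S.presheaf.stalk s))
    (hE : FlatMod.IsFinLocFree E) (hO : ∀ U : S.Opens, Function.Bijective (f.app U).hom)
    (h : ∀ s : S, RegPair (S.presheaf.stalk s) ∨ Good f E s) (y : S) : Good f E y := by
  obtain ⟨_, ⟨U, hU, rfl⟩, hyU, -⟩ :=
    S.isBasis_affineOpens.exists_subset_of_mem_open (Set.mem_univ y) isOpen_univ
  have : IsNoetherianRing Γ(S, U) := IsLocallyNoetherian.component_noetherian ⟨U, hU⟩
  suffices key : ∀ (n : ℕ) (y : S) (hy : y ∈ U), (hU.primeIdealOf ⟨y, hy⟩).asIdeal.height < n → Good f E y by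
    obtain ⟨n, hn⟩ := ENat.ne_top_iff_exists.1 (Ideal.height_ne_top (I := (hU.primeIdealOf ⟨y, hyU⟩).asIdeal)
      (hU.primeIdealOf ⟨y, hyU⟩).isPrime.ne_top)
    exact key (n + 1) y hyU (by rw [← hn]; exact_mod_cast n.lt_succ_self)
  intro n
  induction n with
  | zero => intro y hy hlt; simp at hlt
  | succ n ih =>
    intro y hy hlt
    refine (h y).elim (fun hreg => good_of_regPair f E hS hE hO y hreg fun z hz hne => ih z (hz.mem_open U.isOpen hy) ?_) id
    have hle : (hU.primeIdealOf ⟨z, hz.mem_open U.isOpen hy⟩).asIdeal ≤ (hU.primeIdealOf ⟨y, hy⟩).asIdeal := by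
      rw [← comap_germ_primeOf hz hU hy, ← comap_germ_primeOf (specializes_refl y) hU hy, primeOf_refl]
      exact Ideal.comap_mono (le_maximalIdeal (isPrime_primeOf hz).ne_top)
    have hne' : (hU.primeIdealOf ⟨z, hz.mem_open U.isOpen hy⟩).asIdeal ≠ (hU.primeIdealOf ⟨y, hy⟩).asIdeal := fun e => by
      refine hne ?_
      have := congrArg hU.fromSpec (PrimeSpectrum.ext e)
      rwa [hU.fromSpec_primeIdealOf, hU.fromSpec_primeIdealOf] at this
    have hlt' := Ideal.height_strict_mono_of_isPrime (lt_of_le_of_ne hle hne')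
    exact lt_of_lt_of_le hlt' (by
      rw [Nat.cast_add, Nat.cast_one] at hlt
      exact Order.le_of_lt_add_one hlt)

end Groth.Agent.FreeDescent
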