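import Groth.Agent.FreeDescent.Frames
import Groth.Agent.FreeDescent.Alg
import Groth.Agent.Misc15.DivDescentInd
import Groth.Agent.CycLib28.StalkLocal
import Groth.Agent.FlatMor12.FreeLocusBC
import Groth.Agent.Coherent.Existence.Restrict
import Mathlib

/-!
# Frames along a fibre over a point of depth two
-/

set_option autoImplicit false
set_option linter.style.haveILetI false
set_option backward.isDefEq.respectTransparency.types false
set_option backward.isDefEq.respectTransparency false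
set_option maxHeartbeats 1000000

universe u

open CategoryTheory CategoryTheory.Limits AlgebraicGeometry Opposite TopologicalSpace IsLocalRing TensorProduct
open Groth.Agent.Coherent Groth.Agent.PicLib Groth.Agent.Misc15.DivDescent

namespace Groth.Agent.FreeDescent

variable {X S : Scheme.{u}}

/-- A regular pair acts regularly on a free module. -/
theorem regular_pair_free {B N : Type u} [CommRing B] [AddCommGroup N] [Module B N] {I : Type u} [Fintype I]
    (bN : Module.Basis I B N) {a b : B} (ha : ∀ x : B, a * x = 0 → x = 0)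
    (hb : ∀ x : B, a ∣ b * x → a ∣ x) :
    (∀ c : N, a • c = 0 → c = 0) ∧ ∀ c d : N, b • c = a • d → ∃ c', c = a • c' := by
  refine ⟨fun c hc => bN.ext_elem fun i => ?_, fun c d h => ?_⟩
  · have := congrArg (fun z => bN.repr z i) hc
    simp only [map_smul, map_zero, Finsupp.smul_apply, Finsupp.zero_apply, smul_eq_mul] at this
    simp [ha _ this]
  · have hd : ∀ i, a ∣ bN.repr c i := fun i => hb _ ⟨bN.repr d i, by
      simpa using congrArg (fun z => bN.repr z i) h⟩
    choose c' hc' using hd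
    refine ⟨∑ i, c' i • bN i, ?_⟩
    rw [Finset.smul_sum]
    conv_lhs => rw [← bN.sum_repr c]
    exact Finset.sum_congr rfl fun i _ => by rw [hc', mul_smul]

/-- Elements in the span of images, up to units of a localisation. -/
theorem exists_smul_eq_of_mem_span {R R' M M' : Type u} [CommRing R] [CommRing R'] [AddCommGroup M] [Module R M]
    [AddCommGroup M'] [Module R' M'] (g : R →+* R') (ρ : M →+ M') (hρ : ∀ r m, ρ (r • m) = g r • ρ m)
    (hg : ∀ α : R', ∃ s r : R, IsUnit (g s) ∧ g s * α = g r) {J : Type u} (m : J → M) {y : M'}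
    (hy : y ∈ Submodule.span R' (Set.range fun j => ρ (m j))) :
    ∃ σ : R, IsUnit (g σ) ∧ ∃ n ∈ Submodule.span R (Set.range m), ρ n = g σ • y := by
  induction hy using Submodule.span_induction with
  | mem z hz =>
    obtain ⟨j, rfl⟩ := hz
    exact ⟨1, by simp, m j, Submodule.subset_span ⟨j, rfl⟩, by simp⟩
  | zero => exact ⟨1, by simp, 0, zero_mem _, by simp⟩
  | add v w _ _ hv hw =>
    obtain ⟨s, hs, p, hp, hp'⟩ := hv
    obtain ⟨t, ht, q, hq, hq'⟩ := hw
    refine ⟨s * t, by rw [map_mul]; exact hs.mul ht, t • p + s • q,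
      add_mem (Submodule.smul_mem _ _ hp) (Submodule.smul_mem _ _ hq), ?_⟩
    rw [map_add, hρ, hρ, hp', hq', smul_smul, smul_smul, map_mul, smul_add, mul_comm (g t)]
  | smul α v _ hv =>
    obtain ⟨t, ht, q, hq, hq'⟩ := hv
    obtain ⟨s, r, hs, hsr⟩ := hg α
    refine ⟨s * t, by rw [map_mul]; exact hs.mul ht, r • q, Submodule.smul_mem _ _ hq, ?_⟩
    rw [hρ, hq', smul_smul, smul_smul, ← hsr, map_mul]
    congr 1
    ring

theorem surj_stalkSpecializes {z x : X} (h : z ⤳ x) (α : X.presheaf.stalk z) :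
    ∃ s r : X.presheaf.stalk x, IsUnit ((X.presheaf.stalkSpecializes h).hom s) ∧
      (X.presheaf.stalkSpecializes h).hom s * α = (X.presheaf.stalkSpecializes h).hom r := by
  letI := (X.presheaf.stalkSpecializes h).hom.toAlgebra
  haveI := Misc15.isLocalization_stalkSpecializes h
  obtain ⟨⟨r, s⟩, hrs⟩ := IsLocalization.surj
    ((IsUnit.submonoid (X.presheaf.stalk z)).comap (X.presheaf.stalkSpecializes h).hom) α
  exact ⟨s, r, s.2, (mul_comm _ _).trans hrs⟩

theorem eq_zero_stalkSpecializes {z x : X} (h : z ⤳ x) {c : X.presheaf.stalk x}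
    (hc : (X.presheaf.stalkSpecializes h).hom c = 0) :
    ∃ s : X.presheaf.stalk x, IsUnit ((X.presheaf.stalkSpecializes h).hom s) ∧ s * c = 0 := by
  letI := (X.presheaf.stalkSpecializes h).hom.toAlgebra
  haveI := Misc15.isLocalization_stalkSpecializes h
  obtain ⟨s, hs⟩ := (IsLocalization.map_eq_zero_iff
    ((IsUnit.submonoid (X.presheaf.stalk z)).comap (X.presheaf.stalkSpecializes h).hom) _ c).1 hc
  exact ⟨s, s.2, hs⟩

/-- Specialisation of stalks of a module as an additive map, with its semilinearity. -/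
noncomputable def spHom (F : X.Modules) {z x : X} (h : z ⤳ x) : F.presheaf.stalk x →+ F.presheaf.stalk z :=
  (F.presheaf.stalkSpecializes h).hom

theorem spHom_germ (F : X.Modules) {z x : X} (h : z ⤳ x) {U : X.Opens} (hx : x ∈ U) (m : Γ(F, U)) :
    spHom F h (F.presheaf.germ U x hx m) = F.presheaf.germ U z (h.mem_open U.isOpen hx) m :=
  TopCat.Presheaf.germ_stalkSpecializes_apply F.presheaf hx h m

theorem spHom_smul (F : X.Modules) {z x : X} (h : z ⤳ x) (a : X.presheaf.stalk x) (v : F.presheaf.stalk x) :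
    spHom F h (a • v) = (X.presheaf.stalkSpecializes h).hom a • spHom F h v := by
  obtain ⟨Ua, hxa, r, rfl⟩ := X.presheaf.exists_germ_eq a
  obtain ⟨Uv, hxv, m, rfl⟩ := F.presheaf.exists_germ_eq v
  rw [← TopCat.Presheaf.germ_res_apply X.presheaf (homOfLE (inf_le_left : Ua ⊓ Uv ≤ Ua)) x ⟨hxa, hxv⟩,
    ← TopCat.Presheaf.germ_res_apply F.presheaf (homOfLE (inf_le_right : Ua ⊓ Uv ≤ Uv)) x ⟨hxa, hxv⟩,
    ← QCohLoc.germ_smul', spHom_germ, spHom_germ, QCohLoc.germ_smul']
  exact congrArg₂ (· • ·)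
    (TopCat.Presheaf.germ_stalkSpecializes_apply X.presheaf (show x ∈ Ua ⊓ Uv from ⟨hxa, hxv⟩) h _).symm rfl

theorem surj_spHom (F : X.Modules) [Coh.IsQCoh F] {z x : X} (h : z ⤳ x) (v : F.presheaf.stalk z) :
    ∃ (σ : X.presheaf.stalk x) (m : F.presheaf.stalk x), IsUnit ((X.presheaf.stalkSpecializes h).hom σ) ∧
      spHom F h m = (X.presheaf.stalkSpecializes h).hom σ • v := by
  obtain ⟨_, ⟨U, hU, rfl⟩, hxU, -⟩ :=
    X.isBasis_affineOpens.exists_subset_of_mem_open (Set.mem_univ x) isOpen_univ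
  obtain ⟨r, m, hr, hm⟩ := QCohLoc.exists_smul_stalk_eq_germ F hU (h.mem_open U.isOpen hxU) v
  have hs : (X.presheaf.stalkSpecializes h).hom (X.presheaf.germ U x hxU r) =
      X.presheaf.germ U z (h.mem_open U.isOpen hxU) r := TopCat.Presheaf.germ_stalkSpecializes_apply _ hxU h r
  refine ⟨X.presheaf.germ U x hxU r, F.presheaf.germ U x hxU m, ?_, ?_⟩
  · rw [hs]; exact (X.mem_basicOpen r z _).1 hr
  · rw [spHom_germ, hs]; exact hm.symm

theorem eq_zero_spHom (F : X.Modules) [Coh.IsQCoh F] {z x : X} (h : z ⤳ x) {v : F.presheaf.stalk x}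
    (hv : spHom F h v = 0) :
    ∃ σ : X.presheaf.stalk x, IsUnit ((X.presheaf.stalkSpecializes h).hom σ) ∧ σ • v = 0 := by
  obtain ⟨_, ⟨U, hU, rfl⟩, hxU, -⟩ :=
    X.isBasis_affineOpens.exists_subset_of_mem_open (Set.mem_univ x) isOpen_univ
  have hzU := h.mem_open U.isOpen hxU
  have hs : ∀ r : Γ(X, U), (X.presheaf.stalkSpecializes h).hom (X.presheaf.germ U x hxU r) =
      X.presheaf.germ U z hzU r := fun r => TopCat.Presheaf.germ_stalkSpecializes_apply _ hxU h r
  obtain ⟨g, m, hg, hm⟩ := QCohLoc.exists_smul_stalk_eq_germ F hU hxU v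
  have h0 : F.presheaf.germ U z hzU m = 0 := by
    rw [← spHom_germ F h hxU, ← hm, spHom_smul, hv, smul_zero]
  obtain ⟨r, hr, hrm⟩ := QCohLoc.exists_smul_eq_zero_of_germ F hU hzU m h0
  refine ⟨X.presheaf.germ U x hxU (r * g), ?_, ?_⟩
  · rw [hs, map_mul]
    exact ((X.mem_basicOpen r z hzU).1 hr).mul ((X.mem_basicOpen g z hzU).1 (h.mem_open (X.basicOpen g).isOpen hg))
  · rw [map_mul, mul_smul, hm, ← QCohLoc.germ_smul', hrm, map_zero]

variable (f : X ⟶ S) (E : X.Modules)

/-- The comparison from the stalk of a direct image. -/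
noncomputable def kappa (x : X) :
    ((Scheme.Modules.pushforward f).obj E).presheaf.stalk (f x) →+ E.presheaf.stalk x :=
  (TopCat.Presheaf.stalkPushforward AddCommGrpCat f.base E.presheaf x).hom

theorem kappa_germ (x : X) (U : S.Opens) (hx : f x ∈ U) (t : Γ(E, f ⁻¹ᵁ U)) :
    kappa f E x (((Scheme.Modules.pushforward f).obj E).presheaf.germ U (f x) hx t) =
      E.presheaf.germ (f ⁻¹ᵁ U) x hx t :=
  congr($(TopCat.Presheaf.stalkPushforward_germ AddCommGrpCat f.base E.presheaf U x hx).hom t)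

theorem kappa_smul (x : X) (r : S.presheaf.stalk (f x))
    (m : ((Scheme.Modules.pushforward f).obj E).presheaf.stalk (f x)) :
    kappa f E x (r • m) = (f.stalkMap x).hom r • kappa f E x m := by
  obtain ⟨Ua, hxa, a, rfl⟩ := S.presheaf.exists_germ_eq r
  obtain ⟨Uv, hxv, t, rfl⟩ := ((Scheme.Modules.pushforward f).obj E).presheaf.exists_germ_eq m
  rw [← TopCat.Presheaf.germ_res_apply S.presheaf (homOfLE (inf_le_left : Ua ⊓ Uv ≤ Ua)) (f x) ⟨hxa, hxv⟩,
    ← TopCat.Presheaf.germ_res_apply ((Scheme.Modules.pushforward f).obj E).presheaf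
      (homOfLE (inf_le_right : Ua ⊓ Uv ≤ Uv)) (f x) ⟨hxa, hxv⟩,
    ← QCohLoc.germ_smul']
  refine (kappa_germ f E x _ _ _).trans ?_
  refine Eq.trans ?_ (congrArg₂ (· • ·) (f.germ_stalkMap_apply (Ua ⊓ Uv) x ⟨hxa, hxv⟩ _).symm
    (kappa_germ f E x (Ua ⊓ Uv) ⟨hxa, hxv⟩ _).symm)
  exact QCohLoc.germ_smul' (M := E) (show x ∈ f ⁻¹ᵁ (Ua ⊓ Uv) from ⟨hxa, hxv⟩) _ _

theorem kappa_spHom {x' x : X} (h : x' ⤳ x) (h' : f x' ⤳ f x)
    (m : ((Scheme.Modules.pushforward f).obj E).presheaf.stalk (f x)) :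
    spHom E h (kappa f E x m) = kappa f E x' (spHom ((Scheme.Modules.pushforward f).obj E) h' m) := by
  obtain ⟨U, hx, t, rfl⟩ := ((Scheme.Modules.pushforward f).obj E).presheaf.exists_germ_eq m
  rw [spHom_germ, kappa_germ]
  exact (spHom_germ E h (show x ∈ f ⁻¹ᵁ U from hx) t).trans (kappa_germ f E x' U (h'.mem_open U.isOpen hx) t).symm

variable [Flat f] [IsProper f]

theorem regular_on_stalk (hE : FlatMod.IsFinLocFree E) (x : X) {a b : S.presheaf.stalk (f x)}
    (ha : ∀ r, a * r = 0 → r = 0) (hb : ∀ r, a ∣ b * r → a ∣ r) :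
    (∀ c : E.presheaf.stalk x, (f.stalkMap x).hom a • c = 0 → c = 0) ∧
      ∀ c d : E.presheaf.stalk x, (f.stalkMap x).hom b • c = (f.stalkMap x).hom a • d →
        ∃ c', c = (f.stalkMap x).hom a • c' := by
  letI := (f.stalkMap x).hom.toAlgebra
  haveI : Module.Flat (S.presheaf.stalk (f x)) (X.presheaf.stalk x) := Flat.stalkMap f x
  obtain ⟨h1, h2⟩ := regular_pair_map (B := X.presheaf.stalk x) ha hb
  obtain ⟨U, n, e, hxU, he⟩ := exists_isBasisOn hE x
  obtain ⟨bN, -⟩ := Clifford24.exists_basis_germ he hxU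
  exact regular_pair_free bN h1 h2

/-- A section of a direct image vanishing along a fibre has zero germ. -/
theorem germ_eq_zero_of_fibre {s : S} {U : S.Opens} (hs : s ∈ U) (t : Γ(E, f ⁻¹ᵁ U))
    (h : ∀ (x : X) (hx : f x = s), E.presheaf.germ (f ⁻¹ᵁ U) x (hx.symm ▸ hs : f x ∈ U) t = 0) :
    ((Scheme.Modules.pushforward f).obj E).presheaf.germ U s hs t = 0 := by
  let O : Set X := {x | ∃ (W : X.Opens) (hW : W ≤ f ⁻¹ᵁ U), x ∈ W ∧ resM E hW t = 0}
  have hO : IsOpen O :=
    isOpen_iff_forall_mem_open.2 fun x ⟨W, hW, hx, hb⟩ => ⟨W, fun y hy => ⟨W, hW, hy, hb⟩, W.2, hx⟩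
  have hfib : ∀ x, f x = s → x ∈ O := fun x hx => by
    obtain ⟨W, hxW, i₁, i₂, hW⟩ := TopCat.Presheaf.germ_eq E.presheaf x
      (show x ∈ f ⁻¹ᵁ U from (hx.symm ▸ hs : f x ∈ U)) (show x ∈ f ⁻¹ᵁ U from (hx.symm ▸ hs : f x ∈ U)) t 0 ((h x hx).trans (map_zero _).symm)
    exact ⟨W, leOfHom i₁, hxW, hW.trans (map_zero _)⟩
  let V : S.Opens := U ⊓ ⟨(f '' Oᶜ)ᶜ, (f.isClosedMap _ hO.isClosed_compl).isOpen_compl⟩
  have hsV : s ∈ V := ⟨hs, fun ⟨x, hx, hxs⟩ => hx (hfib x hxs)⟩
  have hz : resM E (fun y hy => hy.1 : f ⁻¹ᵁ V ≤ f ⁻¹ᵁ U) t = 0 := by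
    refine AmpleLib.sec_ext E _ _ fun y hy => ?_
    obtain ⟨W, hW, hyW, hW0⟩ : y ∈ O := by_contra fun hne => hy.2 ⟨y, hne, rfl⟩
    refine ⟨f ⁻¹ᵁ V ⊓ W, inf_le_left, ⟨hy, hyW⟩, ?_⟩
    rw [map_zero, resM_resM, ← resM_resM E hW (inf_le_right : f ⁻¹ᵁ V ⊓ W ≤ W), hW0, map_zero]
  rw [← ((Scheme.Modules.pushforward f).obj E).presheaf.germ_res_apply (homOfLE (inf_le_left : V ≤ U)) s hsV]
  refine (congrArg (fun z => ((Scheme.Modules.pushforward f).obj E).presheaf.germ V s hsV z) ?_).trans (map_zero _)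
  exact hz

variable [IsLocallyNoetherian S] (hS : ∀ s : S, IsDomain (S.presheaf.stalk s)) (hE : FlatMod.IsFinLocFree E)

include hS hE in
/-- A regular pair stays regular on the stalk of the direct image. -/
theorem regular_on_push (s : S) {a b : S.presheaf.stalk s} (ha : ∀ r, a * r = 0 → r = 0)
    (hb : ∀ r, a ∣ b * r → a ∣ r) :
    (∀ m : ((Scheme.Modules.pushforward f).obj E).presheaf.stalk s, a • m = 0 → m = 0) ∧
      ∀ m w : ((Scheme.Modules.pushforward f).obj E).presheaf.stalk s, b • m = a • w → ∃ w', m = a • w' := by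
  let G := (Scheme.Modules.pushforward f).obj E
  constructor
  · intro m hm
    obtain ⟨U, hs, t, rfl⟩ := G.presheaf.exists_germ_eq m
    refine germ_eq_zero_of_fibre f E hs t fun x hx => ?_
    subst hx
    refine (regular_on_stalk f E hE x ha hb).1 _ ?_
    rw [← kappa_germ f E x U hs t, ← kappa_smul]
    exact (congrArg (kappa f E x) hm).trans (map_zero _)
  · intro m w hmw
    classical
    obtain ⟨U₁, hs₁, t, rfl⟩ := G.presheaf.exists_germ_eq m
    obtain ⟨U₂, hs₂, α, rfl⟩ := S.presheaf.exists_germ_eq a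
    obtain ⟨U, hsU, hU, hle, hinj⟩ := S.exists_le_and_germ_injective s (U₁ ⊓ U₂) ⟨hs₁, hs₂⟩
    let α' := PicLib.res (hle.trans inf_le_right : U ≤ U₂) α
    have hα : S.presheaf.germ U s hsU α' = S.presheaf.germ U₂ s hs₂ α :=
      S.presheaf.germ_res_apply _ s hsU α
    have hα0 : α' ≠ 0 := fun h0 => by
      have : S.presheaf.germ U₂ s hs₂ α = 0 := by rw [← hα, h0, map_zero]
      exact one_ne_zero (ha 1 (by rw [this, zero_mul]))
    have hreg : ∀ (u : S) (hu : u ∈ U), ∀ r, S.presheaf.germ U u hu α' * r = 0 → r = 0 := by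
      intro u hu r hr
      haveI := hS u
      refine (mul_eq_zero.1 hr).resolve_left fun h0 => hα0 ?_
      letI := S.presheaf.algebra_section_stalk (⟨u, hu⟩ : U)
      haveI := hU.isLocalization_stalk ⟨u, hu⟩
      obtain ⟨g, hg⟩ := (IsLocalization.map_eq_zero_iff (hU.primeIdealOf ⟨u, hu⟩).asIdeal.primeCompl
        (S.presheaf.stalk u) α').1 h0
      have h1 := congrArg (S.presheaf.germ U s hsU) hg
      rw [map_mul, map_zero, hα, mul_comm] at h1
      have h2 : (g : Γ(S, U)) = 0 := hinj ((ha _ h1).trans (map_zero _).symm)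
      exact absurd g.2 (by rw [h2]; exact fun h => h (zero_mem _))
    let t' : Γ(E, f ⁻¹ᵁ U) := resM E (fun y hy => (hle hy).1 : f ⁻¹ᵁ U ≤ f ⁻¹ᵁ U₁) t
    let O : Set X := {x | ∃ (W : X.Opens) (hW : W ≤ f ⁻¹ᵁ U) (y : Γ(E, W)),
      x ∈ W ∧ PicLib.res hW ((f.app U).hom α') • y = resM E hW t'}
    have hO : IsOpen O :=
      isOpen_iff_forall_mem_open.2 fun x ⟨W, hW, c, hx, hb⟩ => ⟨W, fun y hy => ⟨W, hW, c, hy, hb⟩, W.2, hx⟩
    have hfib : ∀ x, f x = s → x ∈ O := fun x hx => by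
      subst hx
      obtain ⟨c, hc⟩ := (regular_on_stalk f E hE x ha hb).2
        (kappa f E x (G.presheaf.germ U₁ (f x) hs₁ t)) (kappa f E x w) (by
          rw [← kappa_smul, ← kappa_smul]; exact congrArg (kappa f E x) hmw)
      obtain ⟨W₀, hxW₀, y, rfl⟩ := E.presheaf.exists_germ_eq c
      let W := W₀ ⊓ f ⁻¹ᵁ U
      have hxW : x ∈ W := ⟨hxW₀, hsU⟩
      have heq : E.presheaf.germ W x hxW
            (PicLib.res (inf_le_right : W ≤ f ⁻¹ᵁ U) ((f.app U).hom α') • resM E (inf_le_left : W ≤ W₀) y) =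
          E.presheaf.germ W x hxW (resM E (inf_le_right : W ≤ f ⁻¹ᵁ U) t') := by
        rw [QCohLoc.germ_smul', kappa_germ] at *
        refine Eq.trans ?_ (Eq.trans hc.symm ?_)
        · refine congrArg₂ (· • ·) ?_ (E.presheaf.germ_res_apply _ x hxW y)
          refine (X.presheaf.germ_res_apply _ x hxW _).trans ?_
          rw [← f.germ_stalkMap_apply U x hsU α', hα]
        · refine Eq.trans ?_ (E.presheaf.germ_res_apply _ x hxW t').symm
          exact (E.presheaf.germ_res_apply _ x _ t).symm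
      obtain ⟨W', hxW', i₁, i₂, hW'⟩ := TopCat.Presheaf.germ_eq E.presheaf x hxW hxW _ _ heq
      refine ⟨W', (leOfHom i₁).trans inf_le_right, resM E ((leOfHom i₁).trans inf_le_left) y, hxW', ?_⟩
      change resM E (leOfHom i₁) _ = resM E (leOfHom i₁) _ at hW'
      rw [resM_smul, resM_resM, resM_resM] at hW'
      refine Eq.trans ?_ hW'
      congr 1
      exact (congr($(X.presheaf.map_comp (homOfLE (inf_le_right : W ≤ f ⁻¹ᵁ U)).op (homOfLE (leOfHom i₁)).op).hom
        ((f.app U).hom α')) :)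
    let V : S.Opens := U ⊓ ⟨(f '' Oᶜ)ᶜ, (f.isClosedMap _ hO.isClosed_compl).isOpen_compl⟩
    have hsV : s ∈ V := ⟨hsU, fun ⟨x, hx, hxs⟩ => hx (hfib x hxs)⟩
    have hmem : ∀ x : (f ⁻¹ᵁ V : X.Opens), (x : X) ∈ O := fun x => by_contra fun hne => x.2.2 ⟨x, hne, rfl⟩
    choose W hW c hxW hc using hmem
    have hVU : f ⁻¹ᵁ V ≤ f ⁻¹ᵁ U := fun y hy => hy.1
    have hcompat : ∀ i j : (f ⁻¹ᵁ V : X.Opens),
        resM E (inf_le_left : W i ⊓ W j ≤ W i) (c i) = resM E inf_le_right (c j) := by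
      intro i j
      refine TopCat.Presheaf.section_ext (⟨E.presheaf, E.isSheaf⟩ : TopCat.Sheaf Ab X) _ _ _ fun z hz => ?_
      have hzU : f z ∈ U := hW i hz.1
      refine sub_eq_zero.1 ((regular_on_stalk f E hE z (a := S.presheaf.germ U (f z) hzU α') (b := 1)
        (hreg _ hzU) (fun r hr => by rwa [one_mul] at hr)).1 _ ?_)
      rw [smul_sub, sub_eq_zero, f.germ_stalkMap_apply U z hzU α']
      have key : ∀ k (hk : z ∈ W k), X.presheaf.germ (f ⁻¹ᵁ U) z hzU ((f.app U).hom α') •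
          E.presheaf.germ (W k) z hk (c k) = E.presheaf.germ (f ⁻¹ᵁ U) z hzU t' := fun k hk => by
        rw [← E.presheaf.germ_res_apply (homOfLE (hW k)) z hk t',
          ← X.presheaf.germ_res_apply (homOfLE (hW k)) z hk ((f.app U).hom α'), ← QCohLoc.germ_smul']
        exact congrArg (E.presheaf.germ (W k) z hk) (hc k)
      refine Eq.trans (congrArg (_ • ·) (E.presheaf.germ_res_apply _ z hz (c i))) ?_
      exact ((key i hz.1).trans (key j hz.2).symm).trans
        (congrArg (_ • ·) (E.presheaf.germ_res_apply _ z hz (c j)).symm)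
    have hcov : f ⁻¹ᵁ V ≤ ⨆ i, f ⁻¹ᵁ V ⊓ W i := fun y hy => Opens.mem_iSup.2 ⟨⟨y, hy⟩, hy, hxW _⟩
    obtain ⟨y, hy, -⟩ := TopCat.Sheaf.existsUnique_gluing' (⟨E.presheaf, E.isSheaf⟩ : TopCat.Sheaf Ab X)
      (fun i => f ⁻¹ᵁ V ⊓ W i) (f ⁻¹ᵁ V) (fun i => homOfLE inf_le_left) hcov
      (fun i => resM E inf_le_right (c i)) (fun i j => by
        let O' := (f ⁻¹ᵁ V ⊓ W i) ⊓ (f ⁻¹ᵁ V ⊓ W j)
        have hO' : O' ≤ W i ⊓ W j := inf_le_inf inf_le_right inf_le_right
        show resM E _ (resM E _ (c i)) = resM E _ (resM E _ (c j))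
        rw [resM_resM, resM_resM, ← resM_resM E (inf_le_left : W i ⊓ W j ≤ W i) hO' (c i),
          hcompat i j, resM_resM])
    refine ⟨G.presheaf.germ V s hsV y, ?_⟩
    have hfin : PicLib.res hVU ((f.app U).hom α') • y = resM E hVU t' := by
      refine AmpleLib.sec_ext E _ _ fun z hz => ⟨f ⁻¹ᵁ V ⊓ W ⟨z, hz⟩, inf_le_left, ⟨hz, hxW _⟩, ?_⟩
      have hyi : resM E inf_le_left y = resM E inf_le_right (c ⟨z, hz⟩) := hy ⟨z, hz⟩
      rw [resM_smul, hyi, resM_resM, ← resM_resM E (hW ⟨z, hz⟩) (inf_le_right : f ⁻¹ᵁ V ⊓ W ⟨z, hz⟩ ≤ W ⟨z, hz⟩) t', ← hc, resM_smul]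
      congr 1
      exact (congr($(X.presheaf.map_comp (homOfLE hVU).op (homOfLE (inf_le_left)).op).hom
        ((f.app U).hom α')).symm.trans
        congr($(X.presheaf.map_comp (homOfLE (hW ⟨z, hz⟩)).op (homOfLE (inf_le_right)).op).hom ((f.app U).hom α')) :)
    rw [← hα, ← S.presheaf.germ_res_apply (homOfLE (inf_le_left : V ≤ U)) s hsV α', ← QCohLoc.germ_smul',
      ← G.presheaf.germ_res_apply (homOfLE ((inf_le_left : V ≤ U).trans (hle.trans inf_le_left))) s hsV t]
    refine congrArg (G.presheaf.germ V s hsV) ?_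
    refine Eq.trans ?_ ((congrArg (fun r => r • y)
      (congr($(f.naturality (homOfLE (inf_le_left : V ≤ U)).op).hom α'))).trans hfin).symm
    exact (resM_resM E _ hVU t).symm

include hS hE in
/-- Frames at all proper generisations give an isomorphism on stalks over a point with a regular pair. -/
theorem bijective_stalk (x : X) (hreg : RegPair (S.presheaf.stalk (f x))) [IsLocallyNoetherian X]
    (hO : ∀ U : S.Opens, Function.Bijective (f.app U).hom) (hgood : ∀ u : S, u ⤳ f x → u ≠ f x → Good f E u) :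
    letI := (f.stalkMap x).hom.toAlgebra
    letI := Module.compHom (E.presheaf.stalk x) (f.stalkMap x).hom
    haveI : IsScalarTower (S.presheaf.stalk (f x)) (X.presheaf.stalk x) (E.presheaf.stalk x) :=
      IsScalarTower.of_algebraMap_smul fun _ _ => rfl
    ∃ κ : ((Scheme.Modules.pushforward f).obj E).presheaf.stalk (f x) →ₗ[S.presheaf.stalk (f x)]
        E.presheaf.stalk x, (∀ m, κ m = kappa f E x m) ∧
      Function.Bijective (κ.liftBaseChange (X.presheaf.stalk x)) := by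
  classical
  letI := (f.stalkMap x).hom.toAlgebra
  letI := Module.compHom (E.presheaf.stalk x) (f.stalkMap x).hom
  haveI : IsScalarTower (S.presheaf.stalk (f x)) (X.presheaf.stalk x) (E.presheaf.stalk x) :=
    IsScalarTower.of_algebraMap_smul fun _ _ => rfl
  haveI : Module.Flat (S.presheaf.stalk (f x)) (X.presheaf.stalk x) := Flat.stalkMap f x
  haveI : Coh.IsQCoh E := (CohBC.isCoh_of_isFinLocFree hE).1
  haveI : Coh.IsQCoh ((Scheme.Modules.pushforward f).obj E) := Coherent.isQCoh_push f E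
  let G := (Scheme.Modules.pushforward f).obj E
  let κ : G.presheaf.stalk (f x) →ₗ[S.presheaf.stalk (f x)] E.presheaf.stalk x :=
    { toFun := kappa f E x, map_add' := map_add _, map_smul' := fun r m => kappa_smul f E x r m }
  refine ⟨κ, fun _ => rfl, ?_⟩
  obtain ⟨a, hma, b, hmb, ha, hb⟩ := hreg
  obtain ⟨h1, h2⟩ := regular_on_push f E hS hE (f x) ha hb
  refine bijective_liftBaseChange hma hmb h1 h2 (fun c hc => (regular_on_stalk f E hE x ha hb).1 c hc) κ
    fun Q hQ hMQ => ?_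
  obtain ⟨x', hx', rfl⟩ := exists_point Q hQ
  have hu : f x' ⤳ f x := hx'.map f.continuous
  have hne : f x' ≠ f x := by
    intro e
    refine hMQ (Ideal.map_le_iff_le_comap.2 ?_)
    have := primeOf_comap f hx' e rfl (specializes_refl (f x))
    rw [φ_rfl, primeOf_refl] at this
    exact this.ge
  obtain ⟨U, J, hJ, t, huU, hU, ht⟩ := hgood (f x') hu hne
  have htG : IsBasisOn G U (fun j => (show Γ(G, U) from t j)) := by
    intro V hV
    refine Eq.mpr (congrArg Function.Bijective (funext fun a => ?_))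
      ((ht ((Opens.map f.base).map (homOfLE hV)).le).comp (Function.Bijective.piMap fun _ : J => hO V))
    rfl
  obtain ⟨bG, hbG⟩ := Clifford24.exists_basis_germ htG huU
  obtain ⟨bE, hbE⟩ := Clifford24.exists_basis_germ ht (show x' ∈ f ⁻¹ᵁ U from huU)
  choose σ m hσ hm using fun j => surj_spHom G hu (bG j)
  have hsm : ∀ r : S.presheaf.stalk (f x), (X.presheaf.stalkSpecializes hx').hom ((f.stalkMap x).hom r) =
      (f.stalkMap x').hom ((S.presheaf.stalkSpecializes hu).hom r) := fun r =>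
    (Scheme.Hom.stalkSpecializes_stalkMap_apply f x' x hx' r).symm
  have hσ' : ∀ j, IsUnit ((f.stalkMap x').hom ((S.presheaf.stalkSpecializes hu).hom (σ j))) :=
    fun j => (hσ j).map _
  let bG' := bG.unitsSMul fun j => (hσ j).unit
  let bE' := bE.unitsSMul fun j => (hσ' j).unit
  have hG' : ∀ j, spHom G hu (m j) = bG' j := fun j => by
    rw [Module.Basis.unitsSMul_apply, hm, Units.smul_def, IsUnit.unit_spec]
  have hE' : ∀ j, spHom E hx' (κ (m j)) = bE' j := fun j => by
    show spHom E hx' (kappa f E x (m j)) = _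
    rw [kappa_spHom f E hx' hu, hm, kappa_smul, Module.Basis.unitsSMul_apply, Units.smul_def, IsUnit.unit_spec,
      hbG, hbE]
    exact congrArg (_ • ·) (kappa_germ f E x' U huU (t j))
  refine ⟨J, hJ, m, fun n => ?_, fun c => ?_, fun β hβ j => ?_⟩
  · obtain ⟨τ, hτ, p, hp, hp'⟩ := exists_smul_eq_of_mem_span (S.presheaf.stalkSpecializes hu).hom (spHom G hu)
      (spHom_smul G hu) (surj_stalkSpecializes hu) m (y := spHom G hu n) (by
        rw [funext hG']; exact bG'.span_eq.symm.le trivial)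
    obtain ⟨ρ, hρ, hρ0⟩ := eq_zero_spHom G hu (v := p - τ • n)
      (by rw [map_sub, hp', spHom_smul, sub_self])
    refine ⟨ρ * τ, (notMem_primeOf hx' _).2 ?_, ?_⟩
    · show IsUnit ((X.presheaf.stalkSpecializes hx').hom ((f.stalkMap x).hom (ρ * τ)))
      rw [hsm]
      exact IsUnit.map _ (by rw [map_mul]; exact hρ.mul hτ)
    · rw [smul_sub, sub_eq_zero] at hρ0
      rw [mul_smul, ← hρ0]
      exact Submodule.smul_mem _ _ hp
  · obtain ⟨τ, hτ, p, hp, hp'⟩ := exists_smul_eq_of_mem_span (X.presheaf.stalkSpecializes hx').hom (spHom E hx')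
      (spHom_smul E hx') (surj_stalkSpecializes hx') (fun j => κ (m j)) (y := spHom E hx' c) (by
        rw [funext hE']; exact bE'.span_eq.symm.le trivial)
    obtain ⟨ρ, hρ, hρ0⟩ := eq_zero_spHom E hx' (v := p - τ • c)
      (by rw [map_sub, hp', spHom_smul, sub_self])
    refine ⟨ρ * τ, (notMem_primeOf hx' _).2 (by rw [map_mul]; exact hρ.mul hτ), ?_⟩
    rw [smul_sub, sub_eq_zero] at hρ0
    rw [mul_smul, ← hρ0]
    exact Submodule.smul_mem _ _ hp
  · have h := congrArg (spHom E hx') hβ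
    rw [map_sum, map_zero] at h
    have h' : ∑ j, (X.presheaf.stalkSpecializes hx').hom (β j) • bE' j = 0 := by
      refine Eq.trans (Finset.sum_congr rfl fun j _ => ?_) h
      rw [← hE']
      exact (spHom_smul E hx' (β j) (κ (m j))).symm
    obtain ⟨q, hq, hq0⟩ := eq_zero_stalkSpecializes hx' (Fintype.linearIndependent_iff.1 bE'.linearIndependent _ h' j)
    exact ⟨q, (notMem_primeOf hx' _).2 hq, hq0⟩

end Groth.Agent.FreeDescent
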